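import Mathlib
import Groth.Prelude.Def_RelSpec
import Groth.Agent.QCohLib.Criterion

set_option autoImplicit false
set_option backward.isDefEq.respectTransparency false
set_option backward.defeqAttrib.useBackward true
set_option linter.style.haveILetI false

/-!
# Relative spectrum of a quasi-coherent sheaf of algebras
-/

universe u

open CategoryTheory AlgebraicGeometry TopologicalSpace Opposite

namespace Groth.Agent.SpecQCAlg

variable {S : Scheme.{u}}

/-- The underlying module of a sheaf of algebras. -/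
noncomputable abbrev modOf (B : Sheaf (Opens.grothendieckTopology S) CommRingCat.{u})
    (φ : S.sheaf ⟶ B) : S.Modules :=
  (SheafOfModules.restrictScalars
    ((sheafCompose (Opens.grothendieckTopology S) (forget₂ CommRingCat.{u} RingCat.{u})).map φ)).obj
    (SheafOfModules.unit ((sheafCompose (Opens.grothendieckTopology S) (forget₂ CommRingCat.{u} RingCat.{u})).obj B))

theorem isQC_of_isQCoh (B : Sheaf (Opens.grothendieckTopology S) CommRingCat.{u})
    (φ : S.sheaf ⟶ B) (hB : Coh.IsQCoh (modOf B φ)) : RelSpec.IsQC B.obj φ.hom := by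
  intro U hU r
  have hL := QCohLib.locAt (modOf B φ) hU
  letI := (B.obj.map (homOfLE (S.basicOpen_le r)).op).hom.toAlgebra
  have hnat : ∀ a : Γ(S, U), B.obj.map (homOfLE (S.basicOpen_le r)).op ((φ.hom.app (op U)).hom a) =
      (φ.hom.app (op (S.basicOpen r))).hom (S.presheaf.map (homOfLE (S.basicOpen_le r)).op a) := fun a =>
    (congrArg (fun ψ : S.presheaf.obj (op U) ⟶ B.obj.obj (op (S.basicOpen r)) => ψ.hom a)
      (φ.hom.naturality (homOfLE (S.basicOpen_le r)).op)).symm
  refine IsLocalization.Away.mk (S := B.obj.obj (op (S.basicOpen r))) ((φ.hom.app (op U)).hom r) ?_ ?_ ?_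
  · show IsUnit (B.obj.map (homOfLE (S.basicOpen_le r)).op ((φ.hom.app (op U)).hom r))
    rw [hnat]
    haveI := hU.isLocalization_basicOpen r
    exact (IsLocalization.Away.algebraMap_isUnit (S := Γ(S, S.basicOpen r)) r).map _
  · intro z
    obtain ⟨n, s, hs⟩ := hL.extend r z
    refine ⟨n, s, ?_⟩
    show z * (B.obj.map (homOfLE (S.basicOpen_le r)).op ((φ.hom.app (op U)).hom r)) ^ n =
      B.obj.map (homOfLE (S.basicOpen_le r)).op s
    refine Eq.trans ?_ hs.symm
    rw [← map_pow, ← map_pow, hnat, mul_comm, CohBase.sc_apply]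
    rfl
  · intro a b hab
    have hz : (modOf B φ).presheaf.map (homOfLE (S.basicOpen_le r)).op (a - b : B.obj.obj (op U)) = 0 := by
      show B.obj.map (homOfLE (S.basicOpen_le r)).op (a - b) = 0
      rw [map_sub]
      exact sub_eq_zero.mpr hab
    obtain ⟨n, hn⟩ := hL.kill r _ hz
    refine ⟨n, sub_eq_zero.mp ?_⟩
    rw [← mul_sub, ← map_pow]
    rw [CohBase.sc_apply] at hn
    refine Eq.trans ?_ hn
    show _ = (φ.hom.app (op U)).hom _ * (a - b)
    simp

/-- The quasi-coherent algebra. -/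
noncomputable def qcAlg (B : Sheaf (Opens.grothendieckTopology S) CommRingCat.{u})
    (φ : S.sheaf ⟶ B) (hB : Coh.IsQCoh (modOf B φ)) : RelSpec.QCAlg S where
  presheaf := B.obj
  isSheaf := B.property
  str := φ.hom
  isQC := isQC_of_isQCoh B φ hB

theorem isIso_gammaAff (A : RelSpec.QCAlg S) (U : S.Opens) (hU : IsAffineOpen U) :
    IsIso (A.gammaAff U hU) := by
  haveI : IsIso ((A.ι U hU).appLE (A.π ⁻¹ᵁ U) ⊤ (A.top_le_preimage U hU)) := by
    haveI : IsIso ((A.ι U hU).app (A.π ⁻¹ᵁ U)) :=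
      Scheme.Hom.isIso_app _ _ (A.π_preimage U hU).le
    have he : (A.ι U hU) ⁻¹ᵁ (A.π ⁻¹ᵁ U) = ⊤ := top_le_iff.mp (A.top_le_preimage U hU)
    rw [Scheme.Hom.appLE, show homOfLE (A.top_le_preimage U hU) = eqToHom he.symm from
      Subsingleton.elim _ _]
    infer_instance
  unfold RelSpec.QCAlg.gammaAff
  infer_instance

theorem isIso_gammaMap (A : RelSpec.QCAlg S) : IsIso A.gammaMap := by
  let F : TopCat.Sheaf CommRingCat.{u} S.carrier :=
    (TopCat.Sheaf.pushforward CommRingCat.{u} A.π.base).obj A.spec.sheaf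
  let G : TopCat.Sheaf CommRingCat.{u} S.carrier := ⟨A.presheaf, A.isSheaf⟩
  haveI : IsIso (Functor.whiskerLeft (Scheme.AffineZariskiSite.toOpensFunctor S).op A.gammaMap) := by
    rw [A.gammaMap_restrict]
    haveI : ∀ V, IsIso (A.gammaRestrict.app V) := fun V => isIso_gammaAff A V.unop.1 V.unop.2
    exact NatIso.isIso_of_isIso_app _
  let α : F ⟶ G := ⟨A.gammaMap⟩
  haveI : IsIso α := Functor.IsCoverDense.iso_of_restrict_iso
    (G := Scheme.AffineZariskiSite.toOpensFunctor S) (K := Opens.grothendieckTopology S) α ‹_›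
  exact inferInstanceAs (IsIso ((sheafToPresheaf _ _).map α))

theorem exists_spec (B : Sheaf (Opens.grothendieckTopology S) CommRingCat.{u}) (φ : S.sheaf ⟶ B)
    (hB : Coh.IsQCoh (modOf B φ)) :
    ∃ (X : Scheme.{u}) (f : X ⟶ S) (_ : IsAffineHom f)
      (e : B ≅ (TopCat.Sheaf.pushforward CommRingCat.{u} f.base).obj X.sheaf),
      (φ ≫ e.hom).hom = f.c := by
  let A := qcAlg B φ hB
  haveI := isIso_gammaMap A
  let g : (TopCat.Sheaf.pushforward CommRingCat.{u} A.π.base).obj A.spec.sheaf ⟶ B := ⟨A.gammaMap⟩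
  haveI : IsIso ((sheafToPresheaf _ _).map g) := ‹IsIso A.gammaMap›
  haveI : IsIso g := isIso_of_fully_faithful (sheafToPresheaf _ _) g
  refine ⟨A.spec, A.π, inferInstance, (asIso g).symm, ?_⟩
  show φ.hom ≫ (inv g).hom = A.π.c
  have h1 : φ.hom = A.π.c ≫ g.hom := A.π_c_gammaMap.symm
  rw [h1, Category.assoc]
  have h2 : g.hom ≫ (inv g).hom = 𝟙 _ :=
    congrArg (fun t : (TopCat.Sheaf.pushforward CommRingCat.{u} A.π.base).obj A.spec.sheaf ⟶ _ => t.hom) (IsIso.hom_inv_id g)
  rw [h2]
  exact Category.comp_id _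

end Groth.Agent.SpecQCAlg
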